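import Cfsg.Agent.Lib.BigPerm.Fi24Cert.Data

/-! Generated certificate. -/

set_option autoImplicit false
set_option maxRecDepth 100000
set_option maxHeartbeats 0
set_option Elab.async false

namespace Cfsg.Lib.BigPerm.Fi24Cert

open Cfsg.Lib.BigPerm

theorem rel5_5 : planesOK Fi24Net.nets relGroup5 5 = true := by
  decide +kernel

theorem rel5_6 : planesOK Fi24Net.nets relGroup5 6 = true := by
  decide +kernel

theorem rel5_7 : planesOK Fi24Net.nets relGroup5 7 = true := by
  decide +kernel

theorem rel5_8 : planesOK Fi24Net.nets relGroup5 8 = true := by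
  decide +kernel

theorem rel5_9 : planesOK Fi24Net.nets relGroup5 9 = true := by
  decide +kernel

theorem rel5_10 : planesOK Fi24Net.nets relGroup5 10 = true := by
  decide +kernel

theorem rel5_11 : planesOK Fi24Net.nets relGroup5 11 = true := by
  decide +kernel

theorem rel5_12 : planesOK Fi24Net.nets relGroup5 12 = true := by
  decide +kernel

theorem rel5_13 : planesOK Fi24Net.nets relGroup5 13 = true := by
  decide +kernel

theorem rel5_14 : planesOK Fi24Net.nets relGroup5 14 = true := by
  decide +kernel


end Cfsg.Lib.BigPerm.Fi24Cert
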