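import Cfsg.Agent.Lib.BigPerm.Fi24Cert.Data

/-! Generated certificate. -/

set_option autoImplicit false
set_option maxRecDepth 100000
set_option maxHeartbeats 0
set_option Elab.async false

namespace Cfsg.Lib.BigPerm.Fi24Cert

open Cfsg.Lib.BigPerm

theorem rel9_10 : planesOK Fi24Net.nets relGroup9 10 = true := by
  decide +kernel

theorem rel9_11 : planesOK Fi24Net.nets relGroup9 11 = true := by
  decide +kernel

theorem rel9_12 : planesOK Fi24Net.nets relGroup9 12 = true := by
  decide +kernel

theorem rel9_13 : planesOK Fi24Net.nets relGroup9 13 = true := by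
  decide +kernel

theorem rel9_14 : planesOK Fi24Net.nets relGroup9 14 = true := by
  decide +kernel

theorem rel9_15 : planesOK Fi24Net.nets relGroup9 15 = true := by
  decide +kernel

theorem rel9_16 : planesOK Fi24Net.nets relGroup9 16 = true := by
  decide +kernel

theorem rel9_17 : planesOK Fi24Net.nets relGroup9 17 = true := by
  decide +kernel

theorem rel9_18 : planesOK Fi24Net.nets relGroup9 18 = true := by
  decide +kernel

theorem rel10_0 : planesOK Fi24Net.nets relGroup10 0 = true := by
  decide +kernel

theorem rel10_1 : planesOK Fi24Net.nets relGroup10 1 = true := by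
  decide +kernel


end Cfsg.Lib.BigPerm.Fi24Cert
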