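import Cfsg.Agent.Lib.BigPerm.Fi24Cert.Data

/-! Generated certificate. -/

set_option autoImplicit false
set_option maxRecDepth 100000
set_option maxHeartbeats 0
set_option Elab.async false

namespace Cfsg.Lib.BigPerm.Fi24Cert

open Cfsg.Lib.BigPerm

theorem rel11_14 : planesOK Fi24Net.nets relGroup11 14 = true := by
  decide +kernel

theorem rel11_15 : planesOK Fi24Net.nets relGroup11 15 = true := by
  decide +kernel

theorem rel11_16 : planesOK Fi24Net.nets relGroup11 16 = true := by
  decide +kernel

theorem rel11_17 : planesOK Fi24Net.nets relGroup11 17 = true := by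
  decide +kernel

theorem rel11_18 : planesOK Fi24Net.nets relGroup11 18 = true := by
  decide +kernel

theorem rel12_0 : planesOK Fi24Net.nets relGroup12 0 = true := by
  decide +kernel

theorem rel12_1 : planesOK Fi24Net.nets relGroup12 1 = true := by
  decide +kernel

theorem rel12_2 : planesOK Fi24Net.nets relGroup12 2 = true := by
  decide +kernel

theorem rel12_3 : planesOK Fi24Net.nets relGroup12 3 = true := by
  decide +kernel

theorem rel12_4 : planesOK Fi24Net.nets relGroup12 4 = true := by
  decide +kernel

theorem rel12_5 : planesOK Fi24Net.nets relGroup12 5 = true := by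
  decide +kernel

theorem rel12_6 : planesOK Fi24Net.nets relGroup12 6 = true := by
  decide +kernel

theorem rel12_7 : planesOK Fi24Net.nets relGroup12 7 = true := by
  decide +kernel

theorem rel12_8 : planesOK Fi24Net.nets relGroup12 8 = true := by
  decide +kernel

theorem rel12_9 : planesOK Fi24Net.nets relGroup12 9 = true := by
  decide +kernel

theorem rel12_10 : planesOK Fi24Net.nets relGroup12 10 = true := by
  decide +kernel

theorem rel12_11 : planesOK Fi24Net.nets relGroup12 11 = true := by
  decide +kernel

theorem rel12_12 : planesOK Fi24Net.nets relGroup12 12 = true := by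
  decide +kernel

theorem rel12_13 : planesOK Fi24Net.nets relGroup12 13 = true := by
  decide +kernel

theorem rel12_14 : planesOK Fi24Net.nets relGroup12 14 = true := by
  decide +kernel


end Cfsg.Lib.BigPerm.Fi24Cert
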