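import Cfsg.Agent.Lib.BigPerm.Fi24Cert.Data

/-! Generated certificate. -/

set_option autoImplicit false
set_option maxRecDepth 100000
set_option maxHeartbeats 0
set_option Elab.async false

namespace Cfsg.Lib.BigPerm.Fi24Cert

open Cfsg.Lib.BigPerm

theorem rel12_15 : planesOK Fi24Net.nets relGroup12 15 = true := by
  decide +kernel

theorem rel12_16 : planesOK Fi24Net.nets relGroup12 16 = true := by
  decide +kernel

theorem rel12_17 : planesOK Fi24Net.nets relGroup12 17 = true := by
  decide +kernel

theorem rel12_18 : planesOK Fi24Net.nets relGroup12 18 = true := by
  decide +kernel

theorem range_ok : rangeOK Fi24Net.nets 306936 15 = true := by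
  decide +kernel

theorem lens_ok : lensOK Fi24Net.nets = true := by
  decide +kernel

theorem pk_ok : Nat.beq (runW Fi24Net.nets [1] (point 0)) (point 1) = true := by
  decide +kernel

theorem pw_ok : Nat.beq (runW Fi24Net.nets [1, 2, 0, 1] (point 0)) (point 275265) = true := by
  decide +kernel

theorem h220_grown0 : grownOK Fi24Net.nets h220U0 (point 1) h220T0 = true := by
  decide +kernel

theorem h220_count : countOK 306936 h220T0 728 = true := by
  decide +kernel

theorem h220_fix : keepOK Fi24Net.nets h221Words (point 1) = true := by
  decide +kernel

theorem h221_grown0 : grownOK Fi24Net.nets h221U0 (point 3) h221T0 = true := by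
  decide +kernel

theorem h221_count : countOK 306936 h221T0 243 = true := by
  decide +kernel

theorem h221_fix : keepOK Fi24Net.nets h222Words (point 3) = true := by
  decide +kernel

theorem h221_comp : composedAllOK h220Words h221Words h221Comp = true := by
  decide +kernel

theorem h222_grown0 : grownOK Fi24Net.nets h222U0 (point 171) h222T0 = true := by
  decide +kernel

theorem h222_count : countOK 306936 h222T0 80 = true := by
  decide +kernel

theorem h222_fix : keepOK Fi24Net.nets h223Words (point 171) = true := by
  decide +kernel

theorem h222_comp : composedAllOK h221Words h222Words h222Comp = true := by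
  decide +kernel

theorem h223_grown0 : grownOK Fi24Net.nets h223U0 (point 6) h223T0 = true := by
  decide +kernel

theorem h223_grown1 : grownOK Fi24Net.nets h223U1 h223T0 h223T1 = true := by
  decide +kernel

theorem h223_count : countOK 306936 h223T1 18 = true := by
  decide +kernel

theorem h223_fix : keepOK Fi24Net.nets h224Words (point 6) = true := by
  decide +kernel

theorem h223_comp : composedAllOK h222Words h223Words h223Comp = true := by
  decide +kernel

theorem h224_grown0 : grownOK Fi24Net.nets h224U0 (point 275397) h224T0 = true := by
  decide +kernel

theorem h224_count : countOK 306936 h224T0 9 = true := by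
  decide +kernel

theorem h224_fix : keepOK Fi24Net.nets h225Words (point 275397) = true := by
  decide +kernel

theorem h224_comp : composedAllOK h223Words h224Words h224Comp = true := by
  decide +kernel

theorem h225_grown0 : grownOK Fi24Net.nets h225U0 (point 275537) h225T0 = true := by
  decide +kernel

theorem h225_count : countOK 306936 h225T0 2 = true := by
  decide +kernel

theorem h225_fix : keepOK Fi24Net.nets h226Words (point 275537) = true := by
  decide +kernel

theorem h225_comp : composedAllOK h224Words h225Words h225Comp = true := by
  decide +kernel

theorem h226_grown0 : grownOK Fi24Net.nets h226U0 (point 275517) h226T0 = true := by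
  decide +kernel

theorem h226_count : countOK 306936 h226T0 2 = true := by
  decide +kernel

theorem h226_comp : composedAllOK h225Words h226Words h226Comp = true := by
  decide +kernel

theorem p220_grown0 : grownOK Fi24Net.nets p220U0 (point 0) p220T0 = true := by
  decide +kernel

theorem p220_grown1 : grownOK Fi24Net.nets p220U1 p220T0 p220T1 = true := by
  decide +kernel


end Cfsg.Lib.BigPerm.Fi24Cert
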