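import Cfsg.Agent.Lib.BigPerm.Fi24Cert.Data

/-! Generated certificate. -/

set_option autoImplicit false
set_option maxRecDepth 100000
set_option maxHeartbeats 0
set_option Elab.async false

namespace Cfsg.Lib.BigPerm.Fi24Cert

open Cfsg.Lib.BigPerm

theorem p220_count : countOK 306936 p220T1 1080 = true := by
  decide +kernel

theorem p220_fixH : keepOK Fi24Net.nets h220Words (point 0) = true := by
  decide +kernel

theorem p220_compH : composedAllOK p220Words h220Words p220CompH = true := by
  decide +kernel

theorem b80_grown0 : grownOK Fi24Net.nets b80U0 (point 306935) b80T0 = true := by
  decide +kernel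

theorem b80_grown1 : grownOK Fi24Net.nets b80U1 b80T0 b80T1 = true := by
  decide +kernel

theorem b80_count : countOK 306936 b80T1 1080 = true := by
  decide +kernel

theorem b80_fixR : keepOK Fi24Net.nets r80Words (point 306935) = true := by
  decide +kernel

theorem b80_compR : composedAllOK b80Words r80Words b80CompR = true := by
  decide +kernel

theorem r80_grown0 : grownOK Fi24Net.nets r80U0 (point 306933) r80T0 = true := by
  decide +kernel

theorem r80_grown1 : grownOK Fi24Net.nets r80U1 r80T0 r80T1 = true := by
  decide +kernel

theorem r80_count : countOK 306936 r80T1 728 = true := by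
  decide +kernel

theorem r80_fix : keepOK Fi24Net.nets r81Words (point 306933) = true := by
  decide +kernel

theorem r81_grown0 : grownOK Fi24Net.nets r81U0 (point 275678) r81T0 = true := by
  decide +kernel

theorem r81_count : countOK 306936 r81T0 243 = true := by
  decide +kernel

theorem r81_fix : keepOK Fi24Net.nets r82Words (point 275678) = true := by
  decide +kernel

theorem r81_comp : composedAllOK r80Words r81Words r81Comp = true := by
  decide +kernel

theorem r82_grown0 : grownOK Fi24Net.nets r82U0 (point 285695) r82T0 = true := by
  decide +kernel

theorem r82_count : countOK 306936 r82T0 80 = true := by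
  decide +kernel

theorem r82_fix : keepOK Fi24Net.nets r83Words (point 285695) = true := by
  decide +kernel

theorem r82_comp : composedAllOK r81Words r82Words r82Comp = true := by
  decide +kernel

theorem r83_grown0 : grownOK Fi24Net.nets r83U0 (point 275620) r83T0 = true := by
  decide +kernel

theorem r83_grown1 : grownOK Fi24Net.nets r83U1 r83T0 r83T1 = true := by
  decide +kernel

theorem r83_count : countOK 306936 r83T1 18 = true := by
  decide +kernel

theorem r83_fix : keepOK Fi24Net.nets r84Words (point 275620) = true := by
  decide +kernel

theorem r83_comp : composedAllOK r82Words r83Words r83Comp = true := by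
  decide +kernel

theorem r84_grown0 : grownOK Fi24Net.nets r84U0 (point 305663) r84T0 = true := by
  decide +kernel

theorem r84_count : countOK 306936 r84T0 9 = true := by
  decide +kernel

theorem r84_fix : keepOK Fi24Net.nets r85Words (point 305663) = true := by
  decide +kernel

theorem r84_comp : composedAllOK r83Words r84Words r84Comp = true := by
  decide +kernel

theorem r85_grown0 : grownOK Fi24Net.nets r85U0 (point 305660) r85T0 = true := by
  decide +kernel

theorem r85_count : countOK 306936 r85T0 2 = true := by
  decide +kernel

theorem r85_fix : keepOK Fi24Net.nets r86Words (point 305660) = true := by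
  decide +kernel

theorem r85_comp : composedAllOK r84Words r85Words r85Comp = true := by
  decide +kernel

theorem r86_grown0 : grownOK Fi24Net.nets r86U0 (point 305571) r86T0 = true := by
  decide +kernel

theorem r86_count : countOK 306936 r86T0 2 = true := by
  decide +kernel

theorem r86_comp : composedAllOK r85Words r86Words r86Comp = true := by
  decide +kernel

theorem s20_grown0 : grownOK Fi24Net.nets s20U0 (point 275270) s20T0 = true := by
  decide +kernel


end Cfsg.Lib.BigPerm.Fi24Cert
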