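import Cfsg.Agent.Lib.BigPerm.Fi24Cert.Data

/-! Generated certificate. -/

set_option autoImplicit false
set_option maxRecDepth 100000
set_option maxHeartbeats 0
set_option Elab.async false

namespace Cfsg.Lib.BigPerm.Fi24Cert

open Cfsg.Lib.BigPerm

theorem s20_grown1 : grownOK Fi24Net.nets s20U1 s20T0 s20T1 = true := by
  decide +kernel

theorem s20_grown2 : grownOK Fi24Net.nets s20U2 s20T1 s20T2 = true := by
  decide +kernel

theorem s20_grown3 : grownOK Fi24Net.nets s20U3 s20T2 s20T3 = true := by
  decide +kernel

theorem s20_grown4 : grownOK Fi24Net.nets s20U4 s20T3 s20T4 = true := by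
  decide +kernel

theorem s20_count : countOK 306936 s20T4 3510 = true := by
  decide +kernel

theorem s20_fix : keepOK Fi24Net.nets s21Words (point 275270) = true := by
  decide +kernel

theorem s21_grown0 : grownOK Fi24Net.nets s21U0 (point 275279) s21T0 = true := by
  decide +kernel

theorem s21_grown1 : grownOK Fi24Net.nets s21U1 s21T0 s21T1 = true := by
  decide +kernel

theorem s21_grown2 : grownOK Fi24Net.nets s21U2 s21T1 s21T2 = true := by
  decide +kernel

theorem s21_count : countOK 306936 s21T2 693 = true := by
  decide +kernel

theorem s21_fix : keepOK Fi24Net.nets s22Words (point 275279) = true := by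
  decide +kernel

theorem s21_comp : composedAllOK s20Words s21Words s21Comp = true := by
  decide +kernel

theorem s22_grown0 : grownOK Fi24Net.nets s22U0 (point 306930) s22T0 = true := by
  decide +kernel


end Cfsg.Lib.BigPerm.Fi24Cert
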