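import Cfsg.Agent.Lib.BigPerm.Fi24Cert.Data

/-! Generated certificate. -/

set_option autoImplicit false
set_option maxRecDepth 100000
set_option maxHeartbeats 0
set_option Elab.async false

namespace Cfsg.Lib.BigPerm.Fi24Cert

open Cfsg.Lib.BigPerm

theorem s22_grown1 : grownOK Fi24Net.nets s22U1 s22T0 s22T1 = true := by
  decide +kernel

theorem s22_grown2 : grownOK Fi24Net.nets s22U2 s22T1 s22T2 = true := by
  decide +kernel

theorem s22_grown3 : grownOK Fi24Net.nets s22U3 s22T2 s22T3 = true := by
  decide +kernel

theorem s22_grown4 : grownOK Fi24Net.nets s22U4 s22T3 s22T4 = true := by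
  decide +kernel

theorem s22_grown5 : grownOK Fi24Net.nets s22U5 s22T4 s22T5 = true := by
  decide +kernel

theorem s22_grown6 : grownOK Fi24Net.nets s22U6 s22T5 s22T6 = true := by
  decide +kernel

theorem s22_grown7 : grownOK Fi24Net.nets s22U7 s22T6 s22T7 = true := by
  decide +kernel

theorem s22_count : countOK 306936 s22T7 512 = true := by
  decide +kernel

theorem s22_fix : keepOK Fi24Net.nets s23Words (point 306930) = true := by
  decide +kernel

theorem s22_comp : composedAllOK s21Words s22Words s22Comp = true := by
  decide +kernel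

theorem s23_grown0 : grownOK Fi24Net.nets s23U0 (point 305761) s23T0 = true := by
  decide +kernel

theorem s23_grown1 : grownOK Fi24Net.nets s23U1 s23T0 s23T1 = true := by
  decide +kernel

theorem s23_grown2 : grownOK Fi24Net.nets s23U2 s23T1 s23T2 = true := by
  decide +kernel

theorem s23_grown3 : grownOK Fi24Net.nets s23U3 s23T2 s23T3 = true := by
  decide +kernel


end Cfsg.Lib.BigPerm.Fi24Cert
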