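import Cfsg.Agent.Lib.BigPerm.Fi24Cert.Data

/-! Generated certificate. -/

set_option autoImplicit false
set_option maxRecDepth 100000
set_option maxHeartbeats 0
set_option Elab.async false

namespace Cfsg.Lib.BigPerm.Fi24Cert

open Cfsg.Lib.BigPerm

theorem s23_grown4 : grownOK Fi24Net.nets s23U4 s23T3 s23T4 = true := by
  decide +kernel

theorem s23_grown5 : grownOK Fi24Net.nets s23U5 s23T4 s23T5 = true := by
  decide +kernel

theorem s23_grown6 : grownOK Fi24Net.nets s23U6 s23T5 s23T6 = true := by
  decide +kernel

theorem s23_count : countOK 306936 s23T6 1440 = true := by
  decide +kernel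

theorem s23_fix : keepOK Fi24Net.nets s24Words (point 305761) = true := by
  decide +kernel

theorem s23_comp : composedAllOK s22Words s23Words s23Comp = true := by
  decide +kernel

theorem s24_grown0 : grownOK Fi24Net.nets s24U0 (point 306932) s24T0 = true := by
  decide +kernel

theorem s24_count : countOK 306936 s24T0 3 = true := by
  decide +kernel

theorem s24_fix : keepOK Fi24Net.nets s25Words (point 306932) = true := by
  decide +kernel

theorem s24_comp : composedAllOK s23Words s24Words s24Comp = true := by
  decide +kernel

theorem s25_grown0 : grownOK Fi24Net.nets s25U0 (point 305783) s25T0 = true := by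
  decide +kernel

theorem s25_count : countOK 306936 s25T0 3 = true := by
  decide +kernel

theorem s25_fix : keepOK Fi24Net.nets s26Words (point 305783) = true := by
  decide +kernel

theorem s25_comp : composedAllOK s24Words s25Words s25Comp = true := by
  decide +kernel

theorem s26_grown0 : grownOK Fi24Net.nets s26U0 (point 306934) s26T0 = true := by
  decide +kernel

theorem s26_count : countOK 306936 s26T0 2 = true := by
  decide +kernel

theorem s26_fix : keepOK Fi24Net.nets s27Words (point 306934) = true := by
  decide +kernel

theorem s26_comp : composedAllOK s25Words s26Words s26Comp = true := by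
  decide +kernel

theorem s27_grown0 : grownOK Fi24Net.nets s27U0 (point 306926) s27T0 = true := by
  decide +kernel

theorem s27_count : countOK 306936 s27T0 2 = true := by
  decide +kernel

theorem s27_fix : keepOK Fi24Net.nets s28Words (point 306926) = true := by
  decide +kernel

theorem s27_comp : composedAllOK s26Words s27Words s27Comp = true := by
  decide +kernel

theorem s28_grown0 : grownOK Fi24Net.nets s28U0 (point 306269) s28T0 = true := by
  decide +kernel

theorem s28_count : countOK 306936 s28T0 2 = true := by
  decide +kernel

theorem s28_fix : keepOK Fi24Net.nets s29Words (point 306269) = true := by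
  decide +kernel

theorem s28_comp : composedAllOK s27Words s28Words s28Comp = true := by
  decide +kernel

theorem s29_grown0 : grownOK Fi24Net.nets s29U0 (point 1) s29T0 = true := by
  decide +kernel

theorem s29_count : countOK 306936 s29T0 2 = true := by
  decide +kernel

theorem s29_comp : composedAllOK s28Words s29Words s29Comp = true := by
  decide +kernel

theorem s20_fixw : keepOK Fi24Net.nets s20Words (point 275265) = true := by
  decide +kernel

theorem o351_grown0 : grownOK Fi24Net.nets o351U0 (point 275265) o351T0 = true := by
  decide +kernel

theorem p22_split : Nat.beq p220T1 (Nat.lor (point 0) (Nat.lor h220T0 o351T0)) = true := by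
  decide +kernel

theorem p22_keep : keepOK Fi24Net.nets p220Words p220T1 = true := by
  decide +kernel

theorem o6_keep : keepOK Fi24Net.nets b80Words o6 = true := by
  decide +kernel

theorem o6_pk : keepOK Fi24Net.nets b80Words (point 1) = true := by
  decide +kernel

theorem step0_h : Nat.beq (runW Fi24Net.nets stepH0 o6) stepSet0 = true := by
  decide +kernel

theorem step0_hf : Nat.beq (runW Fi24Net.nets (stepH0_0 ++ stepF0) o6) stepSet0 = true := by
  decide +kernel


end Cfsg.Lib.BigPerm.Fi24Cert
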