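import Cfsg.Agent.Lib.BigPerm.Fi24Cert.Data

/-! Generated certificate. -/

set_option autoImplicit false
set_option maxRecDepth 100000
set_option maxHeartbeats 0
set_option Elab.async false

namespace Cfsg.Lib.BigPerm.Fi24Cert

open Cfsg.Lib.BigPerm

theorem step6_hf : Nat.beq (runW Fi24Net.nets (stepH0_6 ++ stepF6) o6) stepSet6 = true := by
  decide +kernel

theorem step6_p : Nat.beq (runW Fi24Net.nets stepH6 (point 1)) (point 17345) = true := by
  decide +kernel

theorem step6_pf : Nat.beq (runW Fi24Net.nets (stepH0_6 ++ stepF6) (point 1)) (point 17345) = true := by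
  decide +kernel

theorem step6_k : Nat.beq (runW Fi24Net.nets (stepH0_6 ++ [1]) (point 1)) (runW Fi24Net.nets stepH1_6 (point 1)) = true := by
  decide +kernel

theorem step7_h : Nat.beq (runW Fi24Net.nets stepH7 o6) stepSet7 = true := by
  decide +kernel

theorem step7_hf : Nat.beq (runW Fi24Net.nets (stepH0_7 ++ stepF7) o6) stepSet7 = true := by
  decide +kernel

theorem step7_p : Nat.beq (runW Fi24Net.nets stepH7 (point 1)) (point 37248) = true := by
  decide +kernel


end Cfsg.Lib.BigPerm.Fi24Cert
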