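import Cfsg.Agent.Lib.BigPerm.Fi24Cert.Data

/-! Generated certificate. -/

set_option autoImplicit false
set_option maxRecDepth 100000
set_option maxHeartbeats 0
set_option Elab.async false

namespace Cfsg.Lib.BigPerm.Fi24Cert

open Cfsg.Lib.BigPerm

theorem step9_h : Nat.beq (runW Fi24Net.nets stepH9 o6) stepSet9 = true := by
  decide +kernel

theorem step9_hf : Nat.beq (runW Fi24Net.nets (stepH0_9 ++ stepF9) o6) stepSet9 = true := by
  decide +kernel

theorem step9_p : Nat.beq (runW Fi24Net.nets stepH9 (point 1)) (point 81045) = true := by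
  decide +kernel

theorem step9_pf : Nat.beq (runW Fi24Net.nets (stepH0_9 ++ stepF9) (point 1)) (point 81045) = true := by
  decide +kernel

theorem step9_k : Nat.beq (runW Fi24Net.nets (stepH0_9 ++ [1]) (point 1)) (runW Fi24Net.nets stepH1_9 (point 1)) = true := by
  decide +kernel

theorem step10_h : Nat.beq (runW Fi24Net.nets stepH10 o6) stepSet10 = true := by
  decide +kernel

theorem step10_hf : Nat.beq (runW Fi24Net.nets (stepH0_10 ++ stepF10) o6) stepSet10 = true := by
  decide +kernel

theorem step10_p : Nat.beq (runW Fi24Net.nets stepH10 (point 1)) (point 252249) = true := by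
  decide +kernel


end Cfsg.Lib.BigPerm.Fi24Cert
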