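import Cfsg.Agent.Lib.BigPerm.Fi24Cert.Data

/-! Generated certificate. -/

set_option autoImplicit false
set_option maxRecDepth 100000
set_option maxHeartbeats 0
set_option Elab.async false

namespace Cfsg.Lib.BigPerm.Fi24Cert

open Cfsg.Lib.BigPerm

theorem step10_pf : Nat.beq (runW Fi24Net.nets (stepH0_10 ++ stepF10) (point 1)) (point 252249) = true := by
  decide +kernel

theorem step10_k : Nat.beq (runW Fi24Net.nets (stepH0_10 ++ [1]) (point 1)) (runW Fi24Net.nets stepH1_10 (point 1)) = true := by
  decide +kernel

theorem step11_h : Nat.beq (runW Fi24Net.nets stepH11 o6) stepSet11 = true := by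
  decide +kernel

theorem step11_hf : Nat.beq (runW Fi24Net.nets (stepH0_11 ++ stepF11) o6) stepSet11 = true := by
  decide +kernel

theorem step11_p : Nat.beq (runW Fi24Net.nets stepH11 (point 1)) (point 826) = true := by
  decide +kernel

theorem step11_pf : Nat.beq (runW Fi24Net.nets (stepH0_11 ++ stepF11) (point 1)) (point 826) = true := by
  decide +kernel

theorem step11_k : Nat.beq (runW Fi24Net.nets (stepH0_11 ++ [1]) (point 1)) (runW Fi24Net.nets stepH1_11 (point 1)) = true := by
  decide +kernel

theorem step12_h : Nat.beq (runW Fi24Net.nets stepH12 o6) stepSet12 = true := by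
  decide +kernel

theorem step12_hf : Nat.beq (runW Fi24Net.nets (stepH0_12 ++ stepF12) o6) stepSet12 = true := by
  decide +kernel

theorem step12_p : Nat.beq (runW Fi24Net.nets stepH12 (point 1)) (point 571) = true := by
  decide +kernel


end Cfsg.Lib.BigPerm.Fi24Cert
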