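import Cfsg.Agent.Lib.BigPerm.Fi24Cert.Data

/-! Generated certificate. -/

set_option autoImplicit false
set_option maxRecDepth 100000
set_option maxHeartbeats 0
set_option Elab.async false

namespace Cfsg.Lib.BigPerm.Fi24Cert

open Cfsg.Lib.BigPerm

theorem step12_pf : Nat.beq (runW Fi24Net.nets (stepH0_12 ++ stepF12) (point 1)) (point 571) = true := by
  decide +kernel

theorem step12_k : Nat.beq (runW Fi24Net.nets (stepH0_12 ++ [1]) (point 1)) (runW Fi24Net.nets stepH1_12 (point 1)) = true := by
  decide +kernel

theorem step13_h : Nat.beq (runW Fi24Net.nets stepH13 o6) stepSet13 = true := by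
  decide +kernel

theorem step13_hf : Nat.beq (runW Fi24Net.nets (stepH0_13 ++ stepF13) o6) stepSet13 = true := by
  decide +kernel

theorem step13_p : Nat.beq (runW Fi24Net.nets stepH13 (point 1)) (point 28560) = true := by
  decide +kernel

theorem step13_pf : Nat.beq (runW Fi24Net.nets (stepH0_13 ++ stepF13) (point 1)) (point 28560) = true := by
  decide +kernel

theorem step13_k : Nat.beq (runW Fi24Net.nets (stepH0_13 ++ [1]) (point 1)) (runW Fi24Net.nets stepH1_13 (point 1)) = true := by
  decide +kernel

theorem step14_h : Nat.beq (runW Fi24Net.nets stepH14 o6) stepSet14 = true := by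
  decide +kernel

theorem step14_hf : Nat.beq (runW Fi24Net.nets (stepH0_14 ++ stepF14) o6) stepSet14 = true := by
  decide +kernel


end Cfsg.Lib.BigPerm.Fi24Cert
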