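import Cfsg.Agent.Lib.BigPerm.Fi24Cert.Data

/-! Generated certificate. -/

set_option autoImplicit false
set_option maxRecDepth 100000
set_option maxHeartbeats 0
set_option Elab.async false

namespace Cfsg.Lib.BigPerm.Fi24Cert

open Cfsg.Lib.BigPerm

theorem rel2_12 : planesOK Fi24Net.nets relGroup2 12 = true := by
  decide +kernel

theorem rel2_13 : planesOK Fi24Net.nets relGroup2 13 = true := by
  decide +kernel

theorem rel2_14 : planesOK Fi24Net.nets relGroup2 14 = true := by
  decide +kernel

theorem rel2_15 : planesOK Fi24Net.nets relGroup2 15 = true := by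
  decide +kernel

theorem rel2_16 : planesOK Fi24Net.nets relGroup2 16 = true := by
  decide +kernel

theorem rel2_17 : planesOK Fi24Net.nets relGroup2 17 = true := by
  decide +kernel

theorem rel2_18 : planesOK Fi24Net.nets relGroup2 18 = true := by
  decide +kernel

theorem rel3_0 : planesOK Fi24Net.nets relGroup3 0 = true := by
  decide +kernel

theorem rel3_1 : planesOK Fi24Net.nets relGroup3 1 = true := by
  decide +kernel

theorem rel3_2 : planesOK Fi24Net.nets relGroup3 2 = true := by
  decide +kernel


end Cfsg.Lib.BigPerm.Fi24Cert
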