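import Cfsg.Agent.Lib.BigPerm.Fi24Cert.Data

/-! Generated certificate. -/

set_option autoImplicit false
set_option maxRecDepth 100000
set_option maxHeartbeats 0
set_option Elab.async false

namespace Cfsg.Lib.BigPerm.Fi24Cert

open Cfsg.Lib.BigPerm

theorem rel4_4 : planesOK Fi24Net.nets relGroup4 4 = true := by
  decide +kernel

theorem rel4_5 : planesOK Fi24Net.nets relGroup4 5 = true := by
  decide +kernel

theorem rel4_6 : planesOK Fi24Net.nets relGroup4 6 = true := by
  decide +kernel

theorem rel4_7 : planesOK Fi24Net.nets relGroup4 7 = true := by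
  decide +kernel

theorem rel4_8 : planesOK Fi24Net.nets relGroup4 8 = true := by
  decide +kernel

theorem rel4_9 : planesOK Fi24Net.nets relGroup4 9 = true := by
  decide +kernel

theorem rel4_10 : planesOK Fi24Net.nets relGroup4 10 = true := by
  decide +kernel

theorem rel4_11 : planesOK Fi24Net.nets relGroup4 11 = true := by
  decide +kernel

theorem rel4_12 : planesOK Fi24Net.nets relGroup4 12 = true := by
  decide +kernel

theorem rel4_13 : planesOK Fi24Net.nets relGroup4 13 = true := by
  decide +kernel


end Cfsg.Lib.BigPerm.Fi24Cert
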