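import Cfsg.Agent.Lib.BigPerm.Fi24Cert.Check0
import Cfsg.Agent.Lib.BigPerm.Fi24Cert.Check1
import Cfsg.Agent.Lib.BigPerm.Fi24Cert.Check2
import Cfsg.Agent.Lib.BigPerm.Fi24Cert.Check3
import Cfsg.Agent.Lib.BigPerm.Fi24Cert.Check4
import Cfsg.Agent.Lib.BigPerm.Fi24Cert.Check5
import Cfsg.Agent.Lib.BigPerm.Fi24Cert.Check6
import Cfsg.Agent.Lib.BigPerm.Fi24Cert.Check7
import Cfsg.Agent.Lib.BigPerm.Fi24Cert.Check8
import Cfsg.Agent.Lib.BigPerm.Fi24Cert.Check9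
import Cfsg.Agent.Lib.BigPerm.Fi24Cert.Check10
import Cfsg.Agent.Lib.BigPerm.Fi24Cert.Check11
import Cfsg.Agent.Lib.BigPerm.Fi24Cert.Check12
import Cfsg.Agent.Lib.BigPerm.Fi24Cert.Check13
import Cfsg.Agent.Lib.BigPerm.Fi24Cert.Check14
import Cfsg.Agent.Lib.BigPerm.Fi24Cert.Check15
import Cfsg.Agent.Lib.BigPerm.Fi24Cert.Check16
import Cfsg.Agent.Lib.BigPerm.Fi24Cert.Check17
import Cfsg.Agent.Lib.BigPerm.Fi24Cert.Check18
import Cfsg.Agent.Lib.BigPerm.Fi24Cert.Check19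
import Cfsg.Agent.Lib.BigPerm.Fi24Cert.Check20
import Cfsg.Agent.Lib.BigPerm.Fi24Cert.Check21
import Cfsg.Agent.Lib.BigPerm.Fi24Cert.Check22
import Cfsg.Agent.Lib.BigPerm.Fi24Cert.Check23
import Cfsg.Agent.Lib.BigPerm.Fi24Cert.Check24
import Cfsg.Agent.Lib.BigPerm.Fi24Cert.Check25
import Cfsg.Agent.Lib.BigPerm.Fi24Cert.Check26
import Cfsg.Agent.Lib.BigPerm.Fi24Cert.Check27
import Cfsg.Agent.Lib.BigPerm.Fi24Cert.Check28
import Cfsg.Agent.Lib.BigPerm.Fi24Cert.Check29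
import Cfsg.Agent.Lib.BigPerm.Fi24Cert.Check30
import Cfsg.Agent.Lib.BigPerm.Fi24Cert.Check31
import Cfsg.Agent.Lib.BigPerm.Fi24Cert.Check32
import Cfsg.Agent.Lib.BigPerm.Fi24Cert.Check33
import Cfsg.Agent.Lib.BigPerm.Fi24Cert.Check34
import Cfsg.Agent.Lib.BigPerm.Fi24Cert.Check35
import Cfsg.Agent.Lib.BigPerm.Fi24Cert.Check36
import Cfsg.Agent.Lib.BigPerm.Fi24Cert.Check37
import Cfsg.Agent.Lib.BigPerm.Fi24Cert.Check38
import Cfsg.Agent.Lib.BigPerm.Fi24Cert.Check39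

/-! Generated certificate: all checks. -/
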