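import Cfsg.Agent.Lib.BigPerm.Fi24Cert.Data

/-! Generated certificate. -/

set_option autoImplicit false
set_option maxRecDepth 100000
set_option maxHeartbeats 0
set_option Elab.async false

namespace Cfsg.Lib.BigPerm.Fi24Cert

open Cfsg.Lib.BigPerm

theorem rel0_0 : planesOK Fi24Net.nets relGroup0 0 = true := by
  decide +kernel

theorem rel0_1 : planesOK Fi24Net.nets relGroup0 1 = true := by
  decide +kernel

theorem rel0_2 : planesOK Fi24Net.nets relGroup0 2 = true := by
  decide +kernel

theorem rel0_3 : planesOK Fi24Net.nets relGroup0 3 = true := by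
  decide +kernel

theorem rel0_4 : planesOK Fi24Net.nets relGroup0 4 = true := by
  decide +kernel

theorem rel0_5 : planesOK Fi24Net.nets relGroup0 5 = true := by
  decide +kernel

theorem rel0_6 : planesOK Fi24Net.nets relGroup0 6 = true := by
  decide +kernel

theorem rel0_7 : planesOK Fi24Net.nets relGroup0 7 = true := by
  decide +kernel

theorem rel0_8 : planesOK Fi24Net.nets relGroup0 8 = true := by
  decide +kernel

theorem rel0_9 : planesOK Fi24Net.nets relGroup0 9 = true := by
  decide +kernel


end Cfsg.Lib.BigPerm.Fi24Cert
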