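import Cfsg.Agent.Lib.BigPerm.Fi24Cert.Data

/-! Generated certificate. -/

set_option autoImplicit false
set_option maxRecDepth 100000
set_option maxHeartbeats 0
set_option Elab.async false

namespace Cfsg.Lib.BigPerm.Fi24Cert

open Cfsg.Lib.BigPerm

theorem turn_set : Nat.beq (runW Fi24Net.nets turnWord o6) turnSet = true := by
  decide +kernel

theorem turn_set2 : Nat.beq (runW Fi24Net.nets [turnLetter] turnSet) turnSet2 = true := by
  decide +kernel

theorem turn_ne : (Nat.beq o6 turnSet || Nat.beq o6 turnSet2 || Nat.beq turnSet turnSet2) = false := by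
  decide +kernel

theorem big_count : countOK 306936 (reach Fi24Net.nets bigWords 9 (point 1)) 275264 = true := by
  decide +kernel

theorem cover : Nat.beq (Nat.lor (reach Fi24Net.nets coverWords 9 p220T1) o8) (below 306936) = true := by
  decide +kernel

theorem o8g_grown0 : grownOK Fi24Net.nets o8gU0 turnSet o8gT0 = true := by
  decide +kernel

theorem o8_sub : Nat.beq (Nat.land o8 o8gT0) o8 = true := by
  decide +kernel


end Cfsg.Lib.BigPerm.Fi24Cert
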