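import Cfsg.Agent.Lib.BigPerm.Fi24Cert.Data

/-! Generated certificate. -/

set_option autoImplicit false
set_option maxRecDepth 100000
set_option maxHeartbeats 0
set_option Elab.async false

namespace Cfsg.Lib.BigPerm.Fi24Cert

open Cfsg.Lib.BigPerm

theorem rel4_14 : planesOK Fi24Net.nets relGroup4 14 = true := by
  decide +kernel

theorem rel4_15 : planesOK Fi24Net.nets relGroup4 15 = true := by
  decide +kernel

theorem rel4_16 : planesOK Fi24Net.nets relGroup4 16 = true := by
  decide +kernel

theorem rel4_17 : planesOK Fi24Net.nets relGroup4 17 = true := by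
  decide +kernel

theorem rel4_18 : planesOK Fi24Net.nets relGroup4 18 = true := by
  decide +kernel

theorem rel5_0 : planesOK Fi24Net.nets relGroup5 0 = true := by
  decide +kernel

theorem rel5_1 : planesOK Fi24Net.nets relGroup5 1 = true := by
  decide +kernel

theorem rel5_2 : planesOK Fi24Net.nets relGroup5 2 = true := by
  decide +kernel

theorem rel5_3 : planesOK Fi24Net.nets relGroup5 3 = true := by
  decide +kernel

theorem rel5_4 : planesOK Fi24Net.nets relGroup5 4 = true := by
  decide +kernel


end Cfsg.Lib.BigPerm.Fi24Cert
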