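
/-! Generated certificate. -/

set_option autoImplicit false
set_option maxRecDepth 100000
set_option maxHeartbeats 0
set_option Elab.async false

namespace Cfsg.Lib.BigPerm.Fi24Cert

/-- Data. -/
def pairWords : List (List Nat) :=
  [[0, 0], [1, 0, 1, 0, 1, 0], [2, 0, 2, 0], [3, 0, 3, 0], [4, 0, 4, 0], [5, 0, 5, 0], [6, 0, 6, 0], [7, 0, 7, 0], [8, 0, 8, 0], [9, 0, 9, 0], [10, 0, 10, 0], [11, 0, 11, 0], [1, 1], [2, 1, 2, 1, 2, 1], [3, 1, 3, 1], [4, 1, 4, 1], [5, 1, 5, 1], [6, 1, 6, 1], [7, 1, 7, 1], [8, 1, 8, 1], [9, 1, 9, 1], [10, 1, 10, 1], [11, 1, 11, 1], [2, 2], [3, 2, 3, 2, 3, 2], [4, 2, 4, 2], [5, 2, 5, 2], [6, 2, 6, 2], [7, 2, 7, 2], [8, 2, 8, 2], [9, 2, 9, 2], [10, 2, 10, 2], [11, 2, 11, 2], [3, 3], [4, 3, 4, 3, 4, 3], [5, 3, 5, 3], [6, 3, 6, 3], [7, 3, 7, 3], [8, 3, 8, 3], [9, 3, 9, 3], [10, 3, 10, 3], [11,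 3, 11, 3], [4, 4], [5, 4, 5, 4, 5, 4], [6, 4, 6, 4], [7, 4, 7, 4], [8, 4, 8, 4], [9, 4, 9, 4], [10, 4, 10, 4], [11, 4, 11, 4], [5, 5], [6, 5, 6, 5, 6, 5], [7, 5, 7, 5], [8, 5, 8, 5], [9, 5, 9, 5], [10, 5, 10, 5, 10, 5], [11, 5, 11, 5], [6, 6], [7, 6, 7, 6, 7, 6], [8, 6, 8, 6], [9, 6, 9, 6], [10, 6, 10, 6], [11, 6, 11, 6], [7, 7], [8, 7, 8, 7, 8, 7], [9, 7, 9, 7], [10, 7, 10, 7], [11, 7, 11, 7], [8, 8], [9, 8, 9, 8, 9, 8], [10, 8, 10, 8], [11, 8, 11, 8], [9, 9], [10, 9, 10, 9], [11, 9, 11, 9], [10, 10], [11, 10, 11, 10, 11, 10], [11, 11]]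

/-- Data. -/
def uWord : List Nat :=
  [11, 10, 5, 9, 8, 7, 6, 5, 0, 1, 2, 3, 4, 5]

/-- Data. -/
def e7Word : List Nat :=
  [2, 3, 4, 5, 6, 7, 10]

/-- Data. -/
def spWord : List Nat :=
  [11, 10, 5, 7, 6, 5, 3, 4, 5]

/-- Data. -/
def relGroup0 : List (List Nat) :=
  [[0, 0], [1, 0, 1, 0, 1, 0], [2, 0, 2, 0], [3, 0, 3, 0], [4, 0, 4, 0], [5, 0, 5, 0], [6, 0, 6, 0], [7, 0, 7, 0]]

/-- Data. -/
def relGroup1 : List (List Nat) :=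
  [[8, 0, 8, 0], [9, 0, 9, 0], [10, 0, 10, 0], [11, 0, 11, 0], [1, 1], [2, 1, 2, 1, 2, 1], [3, 1, 3, 1], [4, 1, 4, 1]]

/-- Data. -/
def relGroup2 : List (List Nat) :=
  [[5, 1, 5, 1], [6, 1, 6, 1], [7, 1, 7, 1], [8, 1, 8, 1], [9, 1, 9, 1], [10, 1, 10, 1], [11, 1, 11, 1], [2, 2]]

/-- Data. -/
def relGroup3 : List (List Nat) :=
  [[3, 2, 3, 2, 3, 2], [4, 2, 4, 2], [5, 2, 5, 2], [6, 2, 6, 2], [7, 2, 7, 2], [8, 2, 8, 2], [9, 2, 9, 2]]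

/-- Data. -/
def relGroup4 : List (List Nat) :=
  [[10, 2, 10, 2], [11, 2, 11, 2], [3, 3], [4, 3, 4, 3, 4, 3], [5, 3, 5, 3], [6, 3, 6, 3], [7, 3, 7, 3], [8, 3, 8, 3]]

/-- Data. -/
def relGroup5 : List (List Nat) :=
  [[9, 3, 9, 3], [10, 3, 10, 3], [11, 3, 11, 3], [4, 4], [5, 4, 5, 4, 5, 4], [6, 4, 6, 4], [7, 4, 7, 4], [8, 4, 8, 4]]

/-- Data. -/
def relGroup6 : List (List Nat) :=
  [[9, 4, 9, 4], [10, 4, 10, 4], [11, 4, 11, 4], [5, 5], [6, 5, 6, 5, 6, 5], [7, 5, 7, 5], [8, 5, 8, 5], [9, 5, 9, 5]]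

/-- Data. -/
def relGroup7 : List (List Nat) :=
  [[10, 5, 10, 5, 10, 5], [11, 5, 11, 5], [6, 6], [7, 6, 7, 6, 7, 6], [8, 6, 8, 6], [9, 6, 9, 6], [10, 6, 10, 6]]

/-- Data. -/
def relGroup8 : List (List Nat) :=
  [[11, 6, 11, 6], [7, 7], [8, 7, 8, 7, 8, 7], [9, 7, 9, 7], [10, 7, 10, 7], [11, 7, 11, 7], [8, 8], [9, 8, 9, 8, 9, 8]]

/-- Data. -/
def relGroup9 : List (List Nat) :=
  [[10, 8, 10, 8], [11, 8, 11, 8], [9, 9], [10, 9, 10, 9], [11, 9, 11, 9], [10, 10], [11, 10, 11, 10, 11, 10], [11, 11]]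

/-- Data. -/
def relGroup10 : List (List Nat) :=
  [[11, 10, 5, 9, 8, 7, 6, 5, 0, 1, 2, 3, 4, 5, 12], [12, 12, 12, 12, 12, 12, 12, 12, 12, 12, 12, 12, 12, 12, 12, 12, 12]]

/-- Data. -/
def relGroup11 : List (List Nat) :=
  [[2, 3, 4, 5, 6, 7, 10, 13], [13, 13, 13, 13, 13, 13, 13, 13, 13, 0], [11, 10, 5, 7, 6, 5, 3, 4, 5, 14]]

/-- Data. -/
def relGroup12 : List (List Nat) :=
  [[14, 14, 14, 14, 14, 14, 14, 14, 14, 14]]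

/-- Data. -/
def h220Words : List (List Nat) :=
  [[0], [2], [3], [4], [5], [6], [7], [10], [11]]

/-- Data. -/
def h220U0 : List (List Nat) :=
  [[0], [2], [3], [4], [5], [6], [7], [10], [11], [5], [6], [10], [4], [5], [6], [7], [10], [11], [3], [4], [5], [6], [7], [10], [3], [4], [5], [6], [2], [3], [4], [5]]

/-- Data. -/
def h221Words : List (List Nat) :=
  [[3], [4], [5], [6], [7], [10], [11]]

/-- Data. -/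
def h221U0 : List (List Nat) :=
  [[3], [4], [5], [6], [7], [10], [11], [5], [6], [10], [4], [5], [6], [7], [10], [11], [3], [4], [5], [6], [7], [10], [3], [4], [5], [6], [4]]

/-- Data. -/
def h221Comp : List (List (Nat × Bool)) :=
  [[(2, false)], [(3, false)], [(4, false)], [(5, false)], [(6, false)], [(7, false)], [(8, false)]]

/-- Data. -/
def h222Words : List (List Nat) :=
  [[4], [5], [6], [7], [10], [11]]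

/-- Data. -/
def h222U0 : List (List Nat) :=
  [[5], [6], [7], [10], [11], [4], [5], [6], [7], [10], [4], [5], [6]]

/-- Data. -/
def h222Comp : List (List (Nat × Bool)) :=
  [[(1, false)], [(2, false)], [(3, false)], [(4, false)], [(5, false)], [(6, false)]]

/-- Data. -/
def h223Words : List (List Nat) :=
  [[4], [6], [7], [10], [11], [5, 4, 6, 5, 7, 6, 10, 11, 5, 10, 4, 5]]

/-- Data. -/
def h223U0 : List (List Nat) :=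
  [[4], [5, 4, 6, 5, 7, 6, 10, 11, 5, 10, 4, 5], [6], [7], [5, 4, 6, 5, 7, 6, 10, 11, 5, 10, 4, 5]]

/-- Data. -/
def h223U1 : List (List Nat) :=
  [[5, 4, 6, 5, 7, 6, 10, 11, 5, 10, 4, 5]]

/-- Data. -/
def h223Comp : List (List (Nat × Bool)) :=
  [[(0, false)], [(2, false)], [(3, false)], [(4, false)], [(5, false)], [(1, false), (0, false), (2, false), (1, false), (3, false), (2, false), (4, false), (5, true), (1, true), (4, true), (0, true), (1, true)]]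

/-- Data. -/
def h224Words : List (List Nat) :=
  [[6], [7], [10], [11]]

/-- Data. -/
def h224U0 : List (List Nat) :=
  [[6], [7], [11], [10]]

/-- Data. -/
def h224Comp : List (List (Nat × Bool)) :=
  [[(1, false)], [(2, false)], [(3, false)], [(4, false)]]

/-- Data. -/
def h225Words : List (List Nat) :=
  [[7], [10]]

/-- Data. -/
def h225U0 : List (List Nat) :=
  [[10]]

/-- Data. -/
def h225Comp : List (List (Nat × Bool)) :=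
  [[(1, false)], [(2, false)]]

/-- Data. -/
def h226Words : List (List Nat) :=
  [[7]]

/-- Data. -/
def h226U0 : List (List Nat) :=
  [[7]]

/-- Data. -/
def h226Comp : List (List (Nat × Bool)) :=
  [[(0, false)]]

/-- Data. -/
def p220Words : List (List Nat) :=
  [[0], [1], [2], [3], [4], [5], [6], [7], [10], [11]]

/-- Data. -/
def p220U0 : List (List Nat) :=
  [[1], [2], [3], [4], [5], [6], [7], [10], [11], [0], [1], [2], [3], [4], [5], [6], [10], [4], [5], [6], [7], [10], [11], [3], [4], [5], [6], [7], [10], [3], [4], [5]]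

/-- Data. -/
def p220U1 : List (List Nat) :=
  [[6], [2], [3], [4], [5]]

/-- Data. -/
def p220CompH : List (List (Nat × Bool)) :=
  [[(0, false)], [(2, false)], [(3, false)], [(4, false)], [(5, false)], [(6, false)], [(7, false)], [(8, false)], [(9, false)]]

/-- Data. -/
def b80Words : List (List Nat) :=
  [[3], [4], [5], [6], [7], [8], [9], [10], [11]]

/-- Data. -/
def b80U0 : List (List Nat) :=
  [[9], [8], [7], [6], [5], [10], [11], [4], [5], [6], [7], [8], [9], [10], [3], [4], [5], [6], [7], [8], [9], [10], [11], [4], [5], [6], [7], [8], [10], [11], [3], [4]]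

/-- Data. -/
def b80U1 : List (List Nat) :=
  [[5], [6], [10], [4], [5], [6], [7], [8], [10], [4]]

/-- Data. -/
def b80CompR : List (List (Nat × Bool)) :=
  [[(0, false)], [(1, false)], [(2, false)], [(3, false)], [(4, false)], [(5, false)], [(7, false)], [(8, false)]]

/-- Data. -/
def r80Words : List (List Nat) :=
  [[3], [4], [5], [6], [7], [8], [10], [11]]

/-- Data. -/
def r80U0 : List (List Nat) :=
  [[8], [7], [6], [5], [10], [11], [4], [5], [6], [7], [8], [10], [3], [4], [5], [6], [7], [8], [10], [11], [4], [5], [6], [7], [10], [11], [3], [4], [5], [6], [10], [4]]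

/-- Data. -/
def r80U1 : List (List Nat) :=
  [[5], [6], [7], [8]]

/-- Data. -/
def r81Words : List (List Nat) :=
  [[3], [4], [5], [6], [7], [10], [11]]

/-- Data. -/
def r81U0 : List (List Nat) :=
  [[7], [6], [5], [10], [11], [4], [5], [6], [7], [10], [3], [4], [5], [6], [7], [10], [11], [4], [5], [6], [10], [11], [3], [4], [5], [6], [10]]

/-- Data. -/
def r81Comp : List (List (Nat × Bool)) :=
  [[(0, false)], [(1, false)], [(2, false)], [(3, false)], [(4, false)], [(6, false)], [(7, false)]]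

/-- Data. -/
def r82Words : List (List Nat) :=
  [[3], [4], [5], [6], [10], [11]]

/-- Data. -/
def r82U0 : List (List Nat) :=
  [[5], [6], [10], [11], [4], [5], [6], [10], [11], [3], [4], [5], [10]]

/-- Data. -/
def r82Comp : List (List (Nat × Bool)) :=
  [[(0, false)], [(1, false)], [(2, false)], [(3, false)], [(5, false)], [(6, false)]]

/-- Data. -/
def r83Words : List (List Nat) :=
  [[3], [4], [6], [10], [11], [5, 4, 3, 6, 5, 4, 10, 11, 5, 10, 6, 5]]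

/-- Data. -/
def r83U0 : List (List Nat) :=
  [[6], [5, 4, 3, 6, 5, 4, 10, 11, 5, 10, 6, 5], [4], [5, 4, 3, 6, 5, 4, 10, 11, 5, 10, 6, 5], [3], [11]]

/-- Data. -/
def r83U1 : List (List Nat) :=
  [[5, 4, 3, 6, 5, 4, 10, 11, 5, 10, 6, 5]]

/-- Data. -/
def r83Comp : List (List (Nat × Bool)) :=
  [[(0, false)], [(1, false)], [(3, false)], [(4, false)], [(5, false)], [(2, false), (1, false), (0, false), (3, false), (2, false), (1, false), (4, false), (5, true), (2, true), (4, true), (3, true), (2, true)]]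

/-- Data. -/
def r84Words : List (List Nat) :=
  [[3], [4], [10], [11]]

/-- Data. -/
def r84U0 : List (List Nat) :=
  [[3], [4], [10], [11]]

/-- Data. -/
def r84Comp : List (List (Nat × Bool)) :=
  [[(0, false)], [(1, false)], [(3, false)], [(4, false)]]

/-- Data. -/
def r85Words : List (List Nat) :=
  [[4], [11]]

/-- Data. -/
def r85U0 : List (List Nat) :=
  [[4]]

/-- Data. -/
def r85Comp : List (List (Nat × Bool)) :=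
  [[(1, false)], [(3, false)]]

/-- Data. -/
def r86Words : List (List Nat) :=
  [[11]]

/-- Data. -/
def r86U0 : List (List Nat) :=
  [[11]]

/-- Data. -/
def r86Comp : List (List (Nat × Bool)) :=
  [[(1, false)]]

/-- Data. -/
def s20Words : List (List Nat) :=
  [[2], [4], [5], [6], [7], [8], [9], [10], [11], [3, 2, 4, 3, 5, 4, 6, 5, 10, 5, 6, 4, 5, 3, 4, 2, 3], [0]]

/-- Data. -/
def s20U0 : List (List Nat) :=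
  [[5], [6], [7], [8], [9], [10], [11], [3, 2, 4, 3, 5, 4, 6, 5, 10, 5, 6, 4, 5, 3, 4, 2, 3], [4], [5], [6], [7], [8], [9], [10], [11]]

/-- Data. -/
def s20U1 : List (List Nat) :=
  [[3, 2, 4, 3, 5, 4, 6, 5, 10, 5, 6, 4, 5, 3, 4, 2, 3], [5], [6], [7], [8], [9], [10], [11]]

/-- Data. -/
def s20U2 : List (List Nat) :=
  [[3, 2, 4, 3, 5, 4, 6, 5, 10, 5, 6, 4, 5, 3, 4, 2, 3], [4], [5], [6], [7], [8], [9], [10], [11]]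

/-- Data. -/
def s20U3 : List (List Nat) :=
  [[3, 2, 4, 3, 5, 4, 6, 5, 10, 5, 6, 4, 5, 3, 4, 2, 3], [5], [6], [7], [8]]

/-- Data. -/
def s20U4 : List (List Nat) :=
  [[4]]

/-- Data. -/
def s21Words : List (List Nat) :=
  [[2], [4], [6], [7], [8], [9], [10], [11], [3, 2, 4, 3, 5, 4, 6, 5, 10, 5, 6, 4, 5, 3, 4, 2, 3], [5, 4, 6, 5, 10, 5, 6, 4, 5], [0]]

/-- Data. -/
def s21U0 : List (List Nat) :=
  [[7], [8], [9], [3, 2, 4, 3, 5, 4, 6, 5, 10, 5, 6, 4, 5, 3, 4, 2, 3], [5, 4, 6, 5, 10, 5, 6, 4, 5], [6], [7], [8]]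

/-- Data. -/
def s21U1 : List (List Nat) :=
  [[11], [3, 2, 4, 3, 5, 4, 6, 5, 10, 5, 6, 4, 5, 3, 4, 2, 3], [5, 4, 6, 5, 10, 5, 6, 4, 5], [7], [8], [9], [10], [11]]

/-- Data. -/
def s21U2 : List (List Nat) :=
  [[3, 2, 4, 3, 5, 4, 6, 5, 10, 5, 6, 4, 5, 3, 4, 2, 3], [5, 4, 6, 5, 10, 5, 6, 4, 5], [6], [7], [8], [9]]

/-- Data. -/
def s21Comp : List (List (Nat × Bool)) :=
  [[(0, false)], [(1, false)], [(3, false)], [(4, false)], [(5, false)], [(6, false)], [(7, false)], [(8, false)], [(9, false)], [(2, false), (1, false), (3, false), (2, false), (7, false), (2, true), (3, true), (1, true), (2, true)], [(10, false)]]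

/-- Data. -/
def s22Words : List (List Nat) :=
  [[2], [4], [6], [8], [9], [10], [11], [3, 2, 4, 3, 5, 4, 6, 5, 10, 5, 6, 4, 5, 3, 4, 2, 3], [5, 4, 6, 5, 10, 5, 6, 4, 5], [7, 6, 8, 7, 5, 4, 6, 5, 10, 5, 6, 4, 5, 7, 8, 6, 7], [7, 6, 8, 7, 3, 2, 4, 3, 5, 4, 6, 5, 10, 5, 6, 4, 5, 3, 4, 2, 3, 7, 8, 6, 7], [0]]

/-- Data. -/
def s22U0 : List (List Nat) :=
  [[6], [3, 2, 4, 3, 5, 4, 6, 5, 10, 5, 6, 4, 5, 3, 4, 2, 3], [5, 4, 6, 5, 10, 5, 6, 4, 5]]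

/-- Data. -/
def s22U1 : List (List Nat) :=
  [[11], [3, 2, 4, 3, 5, 4, 6, 5, 10, 5, 6, 4, 5, 3, 4, 2, 3], [5, 4, 6, 5, 10, 5, 6, 4, 5]]

/-- Data. -/
def s22U2 : List (List Nat) :=
  [[7, 6, 8, 7, 5, 4, 6, 5, 10, 5, 6, 4, 5, 7, 8, 6, 7]]

/-- Data. -/
def s22U3 : List (List Nat) :=
  [[7, 6, 8, 7, 3, 2, 4, 3, 5, 4, 6, 5, 10, 5, 6, 4, 5, 3, 4, 2, 3, 7, 8, 6, 7], [9], [10], [11]]

/-- Data. -/
def s22U4 : List (List Nat) :=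
  [[3, 2, 4, 3, 5, 4, 6, 5, 10, 5, 6, 4, 5, 3, 4, 2, 3]]

/-- Data. -/
def s22U5 : List (List Nat) :=
  [[7, 6, 8, 7, 5, 4, 6, 5, 10, 5, 6, 4, 5, 7, 8, 6, 7]]

/-- Data. -/
def s22U6 : List (List Nat) :=
  [[7, 6, 8, 7, 3, 2, 4, 3, 5, 4, 6, 5, 10, 5, 6, 4, 5, 3, 4, 2, 3, 7, 8, 6, 7], [8], [11]]

/-- Data. -/
def s22U7 : List (List Nat) :=
  [[3, 2, 4, 3, 5, 4, 6, 5, 10, 5, 6, 4, 5, 3, 4, 2, 3]]

/-- Data. -/
def s22Comp : List (List (Nat × Bool)) :=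
  [[(0, false)], [(1, false)], [(2, false)], [(4, false)], [(5, false)], [(6, false)], [(7, false)], [(8, false)], [(9, false)], [(3, false), (2, false), (4, false), (3, false), (9, false), (3, true), (4, true), (2, true), (3, true)], [(3, false), (2, false), (4, false), (3, false), (8, false), (3, true), (4, true), (2, true), (3, true)], [(10, false)]]

/-- Data. -/
def s23Words : List (List Nat) :=
  [[2], [4], [8], [9], [10], [11], [7, 6, 8, 7, 5, 4, 6, 5, 10, 5, 6, 4, 5, 7, 8, 6, 7], [7, 6, 8, 7, 3, 2, 4, 3, 5, 4, 6, 5, 10, 5, 6, 4, 5, 3, 4, 2, 3, 7, 8, 6, 7], [0]]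

/-- Data. -/
def s23U0 : List (List Nat) :=
  [[4], [7, 6, 8, 7, 5, 4, 6, 5, 10, 5, 6, 4, 5, 7, 8, 6, 7]]

/-- Data. -/
def s23U1 : List (List Nat) :=
  [[7, 6, 8, 7, 3, 2, 4, 3, 5, 4, 6, 5, 10, 5, 6, 4, 5, 3, 4, 2, 3, 7, 8, 6, 7], [9], [11]]

/-- Data. -/
def s23U2 : List (List Nat) :=
  [[7, 6, 8, 7, 5, 4, 6, 5, 10, 5, 6, 4, 5, 7, 8, 6, 7]]

/-- Data. -/
def s23U3 : List (List Nat) :=
  [[7, 6, 8, 7, 3, 2, 4, 3, 5, 4, 6, 5, 10, 5, 6, 4, 5, 3, 4, 2, 3, 7, 8, 6, 7], [8], [9], [10], [11]]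

/-- Data. -/
def s23U4 : List (List Nat) :=
  [[7, 6, 8, 7, 5, 4, 6, 5, 10, 5, 6, 4, 5, 7, 8, 6, 7]]

/-- Data. -/
def s23U5 : List (List Nat) :=
  [[7, 6, 8, 7, 3, 2, 4, 3, 5, 4, 6, 5, 10, 5, 6, 4, 5, 3, 4, 2, 3, 7, 8, 6, 7], [8], [9], [10], [11]]

/-- Data. -/
def s23U6 : List (List Nat) :=
  [[7, 6, 8, 7, 5, 4, 6, 5, 10, 5, 6, 4, 5, 7, 8, 6, 7]]

/-- Data. -/
def s23Comp : List (List (Nat × Bool)) :=
  [[(0, false)], [(1, false)], [(3, false)], [(4, false)], [(5, false)], [(6, false)], [(9, false)], [(10, false)], [(11, false)]]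

/-- Data. -/
def s24Words : List (List Nat) :=
  [[2], [8], [9], [10], [11], [0]]

/-- Data. -/
def s24U0 : List (List Nat) :=
  [[8], [9]]

/-- Data. -/
def s24Comp : List (List (Nat × Bool)) :=
  [[(0, false)], [(2, false)], [(3, false)], [(4, false)], [(5, false)], [(8, false)]]

/-- Data. -/
def s25Words : List (List Nat) :=
  [[2], [9], [10], [11], [0]]

/-- Data. -/
def s25U0 : List (List Nat) :=
  [[10], [11]]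

/-- Data. -/
def s25Comp : List (List (Nat × Bool)) :=
  [[(0, false)], [(2, false)], [(3, false)], [(4, false)], [(5, false)]]

/-- Data. -/
def s26Words : List (List Nat) :=
  [[2], [9], [11], [0]]

/-- Data. -/
def s26U0 : List (List Nat) :=
  [[9]]

/-- Data. -/
def s26Comp : List (List (Nat × Bool)) :=
  [[(0, false)], [(1, false)], [(3, false)], [(4, false)]]

/-- Data. -/
def s27Words : List (List Nat) :=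
  [[2], [11], [0]]

/-- Data. -/
def s27U0 : List (List Nat) :=
  [[2]]

/-- Data. -/
def s27Comp : List (List (Nat × Bool)) :=
  [[(0, false)], [(2, false)], [(3, false)]]

/-- Data. -/
def s28Words : List (List Nat) :=
  [[11], [0]]

/-- Data. -/
def s28U0 : List (List Nat) :=
  [[11]]

/-- Data. -/
def s28Comp : List (List (Nat × Bool)) :=
  [[(1, false)], [(2, false)]]

/-- Data. -/
def s29Words : List (List Nat) :=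
  [[0]]

/-- Data. -/
def s29U0 : List (List Nat) :=
  [[0]]

/-- Data. -/
def s29Comp : List (List (Nat × Bool)) :=
  [[(1, false)]]

/-- Data. -/
def o351U0 : List (List Nat) :=
  [[3], [4], [5], [6], [7], [10], [11], [2], [3], [4], [5], [6], [10], [4], [5], [6], [7], [10], [11], [3], [4], [5], [6], [7], [10], [3], [4], [5], [6], [2]]

/-- Data. -/
def loopWord : List Nat :=
  [8, 7, 6, 5, 0, 1, 2, 3, 4, 5, 11, 10, 5, 9, 8, 7, 6, 5, 0, 1, 2, 3, 4, 5, 11, 10, 5, 9, 8, 7, 6, 5, 0, 1, 2, 3, 4, 5, 11, 10, 5, 9, 8, 7, 6, 5, 0, 1, 2, 3, 4, 5, 11, 10, 5, 9, 8, 7, 6, 5, 0, 1, 2, 3, 4, 5, 11, 10, 5, 9, 8, 7, 6, 5, 0, 1, 2, 3, 4, 5, 11, 10, 5, 9, 8, 7, 6, 5, 0, 1, 2, 3, 4, 5, 11, 10, 5, 9, 8, 7, 6, 5, 0, 1, 2, 3, 4, 5, 11, 10, 5, 9, 8, 7, 6, 5, 0, 1, 2, 3, 4, 5, 11, 10, 5, 9, 8, 7, 6, 5, 0, 1, 2, 3, 4, 5, 11, 10, 5, 9, 8,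 7, 6, 5, 0, 1, 2, 3, 4, 5, 11, 10, 5, 9, 8, 7, 6, 5, 0, 1, 2, 3, 4, 5, 11, 10, 5, 9, 8, 7, 6, 5, 0, 1, 2, 3, 4, 5, 11, 10, 5, 9, 8, 7, 6, 5, 0, 1, 2, 3, 4, 5, 11, 10, 5, 9, 8, 7, 6, 5, 0, 1, 2, 3, 4, 5, 11, 10, 5, 9, 8, 7, 6, 5, 0, 1, 2, 3, 4, 5, 11, 10, 5, 9, 8, 7, 6, 5, 0, 1, 2, 3, 4, 5, 11, 10, 5, 9]

/-- Data. -/
def loopStart : List Nat :=
  [0, 2, 3, 4, 5, 6, 7, 8, 9, 10, 5, 4, 3, 6, 5, 7, 6, 10, 11, 10, 5, 4, 3, 2, 6, 5, 7, 6, 8, 7, 10]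

/-- Data. -/
def loopEnd : List Nat :=
  [0, 2, 3, 4, 5, 6, 7, 10, 5, 4, 3, 6, 5, 10, 11, 10, 5, 4, 3, 2, 6, 5, 7, 8, 7, 6, 5, 4, 3, 9, 8, 7, 10, 5, 4, 6, 5, 11, 10, 5, 4, 6, 5, 2, 3, 4, 5, 11, 10, 5, 9]

/-- Data. -/
def stepH0 : List Nat :=
  [0, 2, 3, 4, 5, 6, 7, 8, 9, 10, 5, 4, 3, 6, 5, 7, 6, 10, 11, 10, 5, 4, 3, 2, 6, 5, 7, 6, 8, 7, 10, 8, 7, 6, 5, 0]

/-- Data. -/
def stepH0_0 : List Nat :=
  [2, 3, 4, 5, 6, 7, 10, 5, 4, 6, 5, 10, 11, 10, 5, 4, 3, 2, 6, 5, 4, 7, 6, 10]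

/-- Data. -/
def stepF0 : List Nat :=
  [8, 7, 6, 5, 4, 9, 10, 5, 6, 7, 8]

/-- Data. -/
def stepH1_0 : List Nat :=
  [2, 3, 4, 5, 6, 7, 10, 5, 4, 6, 5, 10, 11, 10, 5, 4, 3, 2, 6, 5, 4, 3, 10, 5, 6]

/-- Data. -/
def stepH1 : List Nat :=
  [2, 3, 4, 5, 6, 7, 10, 5, 4, 6, 5, 10, 11, 10, 5, 4, 3, 2, 6, 5, 4, 3, 10, 5, 6, 8, 7, 6, 5, 4, 9, 10, 5, 6, 7, 8, 2, 3, 4, 5, 11, 10, 5, 9, 8, 7, 6, 5, 0]

/-- Data. -/
def stepH0_1 : List Nat :=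
  [2, 3, 4, 5, 6, 7, 10, 5, 4, 3, 6, 5, 10, 11, 10, 5, 4, 3, 2, 6, 5, 7]

/-- Data. -/
def stepF1 : List Nat :=
  [8, 7, 6, 5, 4, 9, 10, 5, 11]

/-- Data. -/
def stepH1_1 : List Nat :=
  [0, 2, 3, 4, 5, 6, 7, 10, 5, 4, 3, 6, 5, 4, 11, 10, 5, 4, 3, 2, 6, 5, 4, 3, 10]

/-- Data. -/
def stepH2 : List Nat :=
  [0, 2, 3, 4, 5, 6, 7, 10, 5, 4, 3, 6, 5, 4, 11, 10, 5, 4, 3, 2, 6, 5, 4, 3, 10, 8, 7, 6, 5, 4, 9, 10, 5, 11, 2, 3, 4, 5, 11, 10, 5, 9, 8, 7, 6, 5, 0]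

/-- Data. -/
def stepH0_2 : List Nat :=
  [0, 2, 3, 4, 5, 6, 7, 10, 5, 4, 3, 6, 5, 4, 11, 10, 5, 4, 3, 2, 6, 5, 7]

/-- Data. -/
def stepF2 : List Nat :=
  [8, 7, 6, 5, 4, 3, 10, 5, 4, 6, 5]

/-- Data. -/
def stepH1_2 : List Nat :=
  [0, 2, 3, 4, 5, 6, 7, 10, 5, 4, 3, 6, 5, 4, 11, 10, 5, 4, 3, 2, 6, 5, 4, 10]

/-- Data. -/
def stepH3 : List Nat :=
  [0, 2, 3, 4, 5, 6, 7, 10, 5, 4, 3, 6, 5, 4, 11, 10, 5, 4, 3, 2, 6, 5, 4, 10, 8, 7, 6, 5, 4, 3, 10, 5, 4, 6, 5, 2, 3, 4, 5, 11, 10, 5, 9, 8, 7, 6, 5, 0]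

/-- Data. -/
def stepH0_3 : List Nat :=
  [0, 2, 3, 4, 5, 6, 7, 10, 5, 4, 3, 6, 5, 4, 11, 10, 5, 4, 3, 2, 6, 5, 4, 3, 7, 6]

/-- Data. -/
def stepF3 : List Nat :=
  [8, 7, 6, 5, 4, 3, 9, 8, 7, 6, 10, 5, 6, 7, 8, 11]

/-- Data. -/
def stepH1_3 : List Nat :=
  [2, 3, 4, 5, 6, 7, 10, 5, 4, 3, 6, 5, 11, 10, 5, 4, 3, 2, 6, 5, 7]

/-- Data. -/
def stepH4 : List Nat :=
  [2, 3, 4, 5, 6, 7, 10, 5, 4, 3, 6, 5, 11, 10, 5, 4, 3, 2, 6, 5, 7, 8, 7, 6, 5, 4, 3, 9, 8, 7, 6, 10, 5, 6, 7, 8, 11, 2, 3, 4, 5, 11, 10, 5, 9, 8, 7, 6, 5, 0]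

/-- Data. -/
def stepH0_4 : List Nat :=
  [2, 3, 4, 5, 6, 7, 10, 5, 4, 6, 5, 10, 11, 10, 5, 4, 3, 2, 6, 5, 4, 10]

/-- Data. -/
def stepF4 : List Nat :=
  [8, 7, 6, 5, 4, 3, 9, 8, 10, 5, 4, 6, 7, 8]

/-- Data. -/
def stepH1_4 : List Nat :=
  [2, 3, 4, 5, 6, 7, 10, 5, 4, 6, 5, 10, 11, 10, 5, 4, 3, 2, 6, 5, 4, 3, 7, 10, 5]

/-- Data. -/
def stepH5 : List Nat :=
  [2, 3, 4, 5, 6, 7, 10, 5, 4, 6, 5, 10, 11, 10, 5, 4, 3, 2, 6, 5, 4, 3, 7, 10, 5, 8, 7, 6, 5, 4, 3, 9, 8, 10, 5, 4, 6, 7, 8, 2, 3, 4, 5, 11, 10, 5, 9, 8, 7, 6, 5, 0]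

/-- Data. -/
def stepH0_5 : List Nat :=
  [2, 3, 4, 5, 6, 7, 10, 5, 4, 3, 6, 5, 10, 11, 10, 5, 4, 3, 6, 5, 4]

/-- Data. -/
def stepF5 : List Nat :=
  [8, 7, 6, 5, 4, 9, 8, 10, 5, 6, 11, 10]

/-- Data. -/
def stepH1_5 : List Nat :=
  [2, 3, 4, 5, 6, 7, 10, 5, 4, 3, 6, 5, 10, 11, 10, 5, 4, 3, 6, 5, 4]

/-- Data. -/
def stepH6 : List Nat :=
  [2, 3, 4, 5, 6, 7, 10, 5, 4, 3, 6, 5, 10, 11, 10, 5, 4, 3, 6, 5, 4, 8, 7, 6, 5, 4, 9, 8, 10, 5, 6, 11, 10, 2, 3, 4, 5, 11, 10, 5, 9, 8, 7, 6, 5, 0]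

/-- Data. -/
def stepH0_6 : List Nat :=
  [0, 2, 3, 4, 5, 6, 7, 10, 5, 4, 3, 6, 5, 10, 11, 10, 5, 4, 3, 2, 6, 5, 7]

/-- Data. -/
def stepF6 : List Nat :=
  [8, 7, 6, 5, 4, 3, 9, 10, 5, 4, 6, 5, 7, 6, 11, 10, 5]

/-- Data. -/
def stepH1_6 : List Nat :=
  [0, 2, 3, 4, 5, 6, 7, 10, 5, 4, 3, 6, 5, 11, 10, 5, 4, 3, 2, 6, 5, 4]

/-- Data. -/
def stepH7 : List Nat :=
  [0, 2, 3, 4, 5, 6, 7, 10, 5, 4, 3, 6, 5, 11, 10, 5, 4, 3, 2, 6, 5, 4, 8, 7, 6, 5, 4, 3, 9, 10, 5, 4, 6, 5, 7, 6, 11, 10, 5, 2, 3, 4, 5, 11, 10, 5, 9, 8, 7, 6, 5, 0]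

/-- Data. -/
def stepH0_7 : List Nat :=
  [0, 2, 3, 4, 5, 6, 7, 10, 5, 4, 3, 6, 5, 4, 11, 10, 5, 4, 3, 2, 6, 5]

/-- Data. -/
def stepF7 : List Nat :=
  [8, 7, 6, 5, 4, 3, 10, 5, 4, 6, 5, 7, 8, 11]

/-- Data. -/
def stepH1_7 : List Nat :=
  [0, 2, 3, 4, 5, 6, 7, 10, 5, 4, 3, 6, 5, 4, 11, 10, 5, 4, 3, 2, 6, 5, 4, 7, 10]

/-- Data. -/
def stepH8 : List Nat :=
  [0, 2, 3, 4, 5, 6, 7, 10, 5, 4, 3, 6, 5, 4, 11, 10, 5, 4, 3, 2, 6, 5, 4, 7, 10, 8, 7, 6, 5, 4, 3, 10, 5, 4, 6, 5, 7, 8, 11, 2, 3, 4, 5, 11, 10, 5, 9, 8, 7, 6, 5, 0]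

/-- Data. -/
def stepH0_8 : List Nat :=
  [2, 3, 4, 5, 6, 7, 10, 5, 4, 6, 5, 11, 10, 5, 4, 3, 2, 6]

/-- Data. -/
def stepF8 : List Nat :=
  [8, 7, 6, 5, 4, 3, 9, 8, 7, 10, 5, 4, 6, 5, 7, 6]

/-- Data. -/
def stepH1_8 : List Nat :=
  [0, 2, 3, 4, 5, 6, 7, 10, 5, 4, 3, 6, 5, 10, 11, 10, 5, 4, 3, 2, 6, 5, 4, 3, 10, 5, 4]

/-- Data. -/
def stepH9 : List Nat :=
  [0, 2, 3, 4, 5, 6, 7, 10, 5, 4, 3, 6, 5, 10, 11, 10, 5, 4, 3, 2, 6, 5, 4, 3, 10, 5, 4, 8, 7, 6, 5, 4, 3, 9, 8, 7, 10, 5, 4, 6, 5, 7, 6, 2, 3, 4, 5, 11, 10, 5, 9, 8, 7, 6, 5, 0]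

/-- Data. -/
def stepH0_9 : List Nat :=
  [0, 2, 3, 4, 5, 6, 7, 10, 5, 4, 6, 5, 10, 11, 10, 5, 4, 3, 2, 6, 5, 10]

/-- Data. -/
def stepF9 : List Nat :=
  [8, 7, 6, 5, 4, 9, 8, 7, 10, 11]

/-- Data. -/
def stepH1_9 : List Nat :=
  [0, 2, 3, 4, 5, 6, 7, 10, 5, 4, 6, 11, 10, 5, 4, 3, 2, 6, 7]

/-- Data. -/
def stepH10 : List Nat :=
  [0, 2, 3, 4, 5, 6, 7, 10, 5, 4, 6, 11, 10, 5, 4, 3, 2, 6, 7, 8, 7, 6, 5, 4, 9, 8, 7, 10, 11, 2, 3, 4, 5, 11, 10, 5, 9, 8, 7, 6, 5, 0]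

/-- Data. -/
def stepH0_10 : List Nat :=
  [2, 3, 4, 5, 6, 7, 10, 5, 4, 6, 5, 11, 10, 5, 4, 3]

/-- Data. -/
def stepF10 : List Nat :=
  [8, 7, 9, 8]

/-- Data. -/
def stepH1_10 : List Nat :=
  [2, 3, 4, 5, 6, 7, 10, 5, 4, 6, 5, 11, 10, 5, 4, 3]

/-- Data. -/
def stepH11 : List Nat :=
  [2, 3, 4, 5, 6, 7, 10, 5, 4, 6, 5, 11, 10, 5, 4, 3, 8, 7, 9, 8, 2, 3, 4, 5, 11, 10, 5, 9, 8, 7, 6, 5, 0]

/-- Data. -/
def stepH0_11 : List Nat :=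
  [0, 2, 3, 4, 5, 6, 7, 10, 5, 4, 3, 6, 11, 10, 5, 4, 3, 2, 6, 7]

/-- Data. -/
def stepF11 : List Nat :=
  [8, 9]

/-- Data. -/
def stepH1_11 : List Nat :=
  [0, 2, 3, 4, 5, 6, 7, 10, 5, 4, 6, 5, 10, 11, 10, 5, 4, 3, 2, 6, 5, 4, 10]

/-- Data. -/
def stepH12 : List Nat :=
  [0, 2, 3, 4, 5, 6, 7, 10, 5, 4, 6, 5, 10, 11, 10, 5, 4, 3, 2, 6, 5, 4, 10, 8, 9, 2, 3, 4, 5, 11, 10, 5, 9, 8, 7, 6, 5, 0]

/-- Data. -/
def stepH0_12 : List Nat :=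
  [2, 3, 4, 5, 6, 7, 10, 5, 4, 6, 5, 10, 11, 10, 5, 4, 3, 6, 5, 7]

/-- Data. -/
def stepF12 : List Nat :=
  []

/-- Data. -/
def stepH1_12 : List Nat :=
  [2, 3, 4, 5, 6, 7, 10, 5, 4, 6, 5, 10, 11, 10, 5, 4, 3, 6, 5, 7]

/-- Data. -/
def stepH13 : List Nat :=
  [2, 3, 4, 5, 6, 7, 10, 5, 4, 6, 5, 10, 11, 10, 5, 4, 3, 6, 5, 7, 2, 3, 4, 5, 11, 10, 5, 9, 8, 7, 6, 5, 0]

/-- Data. -/
def stepH0_13 : List Nat :=
  [2, 3, 4, 5, 6, 7, 10, 5, 4, 3, 2, 6, 5, 11, 10, 5, 4, 3, 2, 6, 5, 4]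

/-- Data. -/
def stepF13 : List Nat :=
  [8, 7, 6, 5]

/-- Data. -/
def stepH1_13 : List Nat :=
  [0, 2, 3, 4, 5, 6, 7, 10, 5, 4, 3, 6, 5, 10, 11, 10, 5, 4, 3, 2, 6, 5, 10]

/-- Data. -/
def stepH14 : List Nat :=
  [0, 2, 3, 4, 5, 6, 7, 10, 5, 4, 3, 6, 5, 10, 11, 10, 5, 4, 3, 2, 6, 5, 10, 8, 7, 6, 5, 2, 3, 4, 5, 11, 10, 5, 9, 8, 7, 6, 5, 0]

/-- Data. -/
def stepH0_14 : List Nat :=
  [2, 3, 4, 5, 6, 7, 10, 5, 4, 3, 6, 5, 4, 11, 10, 5, 4, 6, 5, 7, 10]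

/-- Data. -/
def stepF14 : List Nat :=
  [8, 7, 6, 5, 4, 9, 8, 7, 6, 10, 5, 6]

/-- Data. -/
def stepH1_14 : List Nat :=
  [2, 3, 4, 5, 6, 7, 10, 5, 4, 3, 6, 5, 4, 11, 10, 5, 4, 6, 5, 7, 10]

/-- Data. -/
def stepH15 : List Nat :=
  [2, 3, 4, 5, 6, 7, 10, 5, 4, 3, 6, 5, 4, 11, 10, 5, 4, 6, 5, 7, 10, 8, 7, 6, 5, 4, 9, 8, 7, 6, 10, 5, 6, 2, 3, 4, 5, 11, 10, 5, 9, 8, 7, 6, 5, 0]

/-- Data. -/
def stepH0_15 : List Nat :=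
  [2, 3, 4, 5, 6, 7, 10, 5, 4, 3, 6, 5, 10, 11, 10, 5, 4, 3, 6, 5, 10]

/-- Data. -/
def stepF15 : List Nat :=
  [8, 7, 6, 5, 4, 3, 9, 8, 7, 6, 10, 5, 4, 3, 6, 11, 10, 5]

/-- Data. -/
def stepH1_15 : List Nat :=
  [2, 3, 4, 5, 6, 7, 10, 5, 4, 3, 6, 5, 10, 11, 10, 5, 4, 3, 6, 5, 10]

/-- Data. -/
def stepH16 : List Nat :=
  [2, 3, 4, 5, 6, 7, 10, 5, 4, 3, 6, 5, 10, 11, 10, 5, 4, 3, 6, 5, 10, 8, 7, 6, 5, 4, 3, 9, 8, 7, 6, 10, 5, 4, 3, 6, 11, 10, 5, 2, 3, 4, 5, 11, 10, 5, 9, 8, 7, 6, 5, 0]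

/-- Data. -/
def stepH0_16 : List Nat :=
  [0, 2, 3, 4, 5, 6, 7, 10, 5, 4, 3, 6, 5, 11, 10, 5, 4, 3, 2, 6, 5, 4]

/-- Data. -/
def stepF16 : List Nat :=
  [8, 7, 6, 5, 4, 3, 9, 8, 7, 10, 5, 4, 6, 5, 11, 10, 5, 4, 6, 5]

/-- Data. -/
def stepH1_16 : List Nat :=
  [0, 2, 3, 4, 5, 6, 7, 10, 5, 4, 3, 6, 5, 10, 11, 10, 5, 4, 3, 2, 6, 5, 7]

/-- Data. -/
def turnWord : List Nat :=
  [0, 2, 3, 4, 5, 6, 7, 10, 5, 4, 3, 6, 5, 10, 11, 10, 5, 4, 3, 2, 6, 5, 7, 8, 7, 6, 5, 4, 3, 9, 8, 7, 10, 5, 4, 6, 5, 11, 10, 5, 4, 6, 5, 2, 3, 4, 5, 11, 10, 5, 9, 10, 7, 8, 6, 7, 5, 6, 2, 3, 4, 5, 10, 11, 10, 6, 7, 5, 6, 3, 4, 5, 10, 9, 8, 7, 6, 5, 4, 3, 2, 0]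

/-- Data. -/
def turnLetter : Nat :=
  3

/-- Data. -/
def bigWords : List (List Nat) :=
  [[0], [2], [3], [4], [5], [6], [7], [8], [9], [10], [11]]

/-- Data. -/
def coverWords : List (List Nat) :=
  [[3], [4], [5], [6], [7], [8], [9], [10], [11]]

/-- Data. -/
def o8gU0 : List (List Nat) :=
  [[3]]


end Cfsg.Lib.BigPerm.Fi24Cert
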