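import Cfsg.Agent.Lib.BigPerm.Fi24Net.Data
import Cfsg.Agent.Lib.BigPerm.Fi24Cert.Words
import Cfsg.Agent.Lib.BigPerm.Fi24Cert.Sets0

/-! Generated certificate. -/

set_option autoImplicit false
set_option maxRecDepth 100000
set_option maxHeartbeats 0
set_option Elab.async false

namespace Cfsg.Lib.BigPerm.Fi24Cert


end Cfsg.Lib.BigPerm.Fi24Cert
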